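import Cfsg.Agent.Helper42.B43c.PBDefs
import Cfsg.Agent.Helper24.ZasGrpA

/-!
# S4700 (helper42 WANTED #7550), pieces (R4) and (R5)

In a perfect finite group with a Sylow `p`-subgroup `P` of order `p`:
`|N_G(P) : C_G(P)| ≥ 2` (Burnside's transfer theorem) and `n_p ≠ 1`.
-/

set_option autoImplicit false

namespace Cfsg.Agent.Helper55.B43c

open Cfsg

universe u

section R

variable {G : Type u} [Group G] [Finite G] {p : ℕ} [Fact p.Prime]

/-- (R4) in a perfect group, `|N_G(P) : C_G(P)| ≥ 2` for a Sylow subgroup of order `p`
(Burnside's transfer theorem: `Helper24.Zas.burnside_perfect`). -/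
theorem two_le_relIndex (hperf : commutator G = ⊤) (P : Sylow p G) (hP : Nat.card P = p) :
    2 ≤ (Subgroup.centralizer ((P : Subgroup G) : Set G)).relIndex
      (Subgroup.normalizer ((P : Subgroup G) : Set G)) := by
  have hp : p.Prime := Fact.out
  have h0 : (Subgroup.centralizer ((P : Subgroup G) : Set G)).relIndex
      (Subgroup.normalizer ((P : Subgroup G) : Set G)) ≠ 0 := by
    unfold Subgroup.relIndex
    exact Subgroup.index_ne_zero_of_finite
  have h1 : (Subgroup.centralizer ((P : Subgroup G) : Set G)).relIndex
      (Subgroup.normalizer ((P : Subgroup G) : Set G)) ≠ 1 := by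
    intro h
    rw [Subgroup.relIndex_eq_one] at h
    have hbot := Cfsg.Agent.Helper24.Zas.burnside_perfect hperf P h
    have hc : Nat.card (P : Subgroup G) = 1 := by
      rw [hbot]; exact Subgroup.card_bot
    have hP' : Nat.card (P : Subgroup G) = p := hP
    rw [hP'] at hc
    exact hp.one_lt.ne' hc
  omega

/-- (R5) in a perfect group, a Sylow subgroup of order `p` is not normal: `n_p ≠ 1`. -/
theorem card_sylow_ne_one (hperf : commutator G = ⊤) (P : Sylow p G) (hP : Nat.card P = p) :
    Nat.card (Sylow p G) ≠ 1 := by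
  have hp : p.Prime := Fact.out
  intro h
  have hsub : Subsingleton (Sylow p G) := (Nat.card_eq_one_iff_unique.mp h).1
  have hnorm : (P : Subgroup G).Normal := P.normal_of_subsingleton
  have hcyc : IsCyclic (P : Subgroup G) := by
    have hP' : Nat.card (P : Subgroup G) = p := hP
    exact isCyclic_of_prime_card hP'
  have hcen : ∀ n ∈ (P : Subgroup G), ∀ g : G, g * n = n * g := fun n hn g =>
    Cfsg.Agent.Helper24.Zas.cyclic_normal_central (hN := hnorm) hperf (P : Subgroup G) hcyc n hn g
  have hle : Subgroup.normalizer ((P : Subgroup G) : Set G) ≤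
      Subgroup.centralizer ((P : Subgroup G) : Set G) := by
    intro g _
    rw [Subgroup.mem_centralizer_iff]
    intro n hn
    exact (hcen n hn g).symm
  have h2 := two_le_relIndex hperf P hP
  rw [(Subgroup.relIndex_eq_one).mpr hle] at h2
  omega

end R

end Cfsg.Agent.Helper55.B43c
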